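import Groth.Agent.WittFilH.Teich
import Groth.Prelude.Def_W4c6katofiltaWFil

/-! Filtered pieces of truncated Witt vectors via Frobenius scaling. -/

set_option autoImplicit false

universe u

namespace Groth.WittFilH

open WittVector

variable {p : ℕ} [Fact p.Prime] {A B : Type u} [CommRing A] [CommRing B] [Algebra A B]

/-- Elements with a `p`-power in the image of `A` lie in the image of `A`. -/
def RootClosed (p : ℕ) (A B : Type u) [CommRing A] [CommRing B] [Algebra A B] : Prop :=
  ∀ (k : ℕ) (y : B), y ^ p ^ k ∈ (algebraMap A B).range → y ∈ (algebraMap A B).range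

theorem mem_fil_truncate {m : ℕ} {c : B} {X : WittVector p B} :
    WittVector.truncate m X ∈ WittFil.fil p m (A := A) c ↔
      ∀ j < m, X.coeff j ^ p ^ (m - 1 - j) * c ∈ (algebraMap A B).range := by
  simp only [WittFil.fil, Set.mem_ofPred_eq, WittVector.coeff_truncate]
  exact ⟨fun h j hj => h ⟨j, hj⟩, fun h j => h j j.2⟩

theorem pow_split {m j : ℕ} (hj : j < m) : p ^ j * p ^ (m - 1 - j) = p ^ (m - 1) := by
  rw [← pow_add]; congr 1; omega

theorem mul_teichmuller_mem_fil {m : ℕ} {c v : B} {X : WittVector p B} :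
    WittVector.truncate m (X * teichmuller p v) ∈ WittFil.fil p m (A := A) c ↔
      WittVector.truncate m X ∈ WittFil.fil p m (A := A) (v ^ p ^ (m - 1) * c) := by
  simp only [mem_fil_truncate, coeff_mul_teichmuller]
  refine forall₂_congr fun j hj => ?_
  rw [mul_pow, ← pow_mul, pow_split hj, mul_assoc]

section CharP

variable [CharP B p]

/-- Frobenius scaling: coordinate `j` is `(x_j^(p^(m-1-j)) c)^(p^j)`. -/
noncomputable def scaled (m : ℕ) (c : B) (X : WittVector p B) : WittVector p B :=
  WittVector.map (iterateFrobenius B p (m - 1)) X * teichmuller p c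

theorem coeff_scaled {m : ℕ} (c : B) (X : WittVector p B) {j : ℕ} (hj : j < m) :
    (scaled m c X).coeff j = (X.coeff j ^ p ^ (m - 1 - j) * c) ^ p ^ j := by
  rw [scaled, coeff_mul_teichmuller, map_coeff, iterateFrobenius_def, mul_pow, ← pow_mul,
    mul_comm (p ^ (m - 1 - j)), pow_split hj]

theorem scaled_sub (m : ℕ) (c : B) (X Y : WittVector p B) :
    scaled m c (X - Y) = scaled m c X - scaled m c Y := by rw [scaled, map_sub, sub_mul]; rfl

theorem exists_lift {m : ℕ} {c : B} {X : WittVector p B}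
    (h : WittVector.truncate m X ∈ WittFil.fil p m (A := A) c) :
    ∃ X' : WittVector p A, ∀ j < m, algebraMap A B (X'.coeff j) = (scaled m c X).coeff j := by
  classical
  rw [mem_fil_truncate] at h
  have : ∀ j, ∃ a : A, j < m → algebraMap A B a = (scaled m c X).coeff j := fun j => by
    by_cases hj : j < m
    · obtain ⟨a, ha⟩ := h j hj
      exact ⟨a ^ p ^ j, fun _ => by rw [map_pow, ha, coeff_scaled c X hj]⟩
    · exact ⟨0, fun h => absurd h hj⟩
  choose f hf using this
  exact ⟨WittVector.mk p f, fun j hj => by rw [WittVector.coeff_mk]; exact hf j hj⟩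

theorem truncate_map_eq {m : ℕ} {Z : WittVector p B} {X' : WittVector p A}
    (h : ∀ j < m, algebraMap A B (X'.coeff j) = Z.coeff j) :
    WittVector.truncate m (WittVector.map (algebraMap A B) X') = WittVector.truncate m Z :=
  TruncatedWittVector.ext fun i => by rw [coeff_truncate, coeff_truncate, map_coeff]; exact h i i.2

theorem mem_fil_of_lift (hr : RootClosed p A B) {m : ℕ} {c : B} {X : WittVector p B} {X' : WittVector p A}
    (h : WittVector.truncate m (WittVector.map (algebraMap A B) X') = WittVector.truncate m (scaled m c X)) :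
    WittVector.truncate m X ∈ WittFil.fil p m (A := A) c := by
  rw [mem_fil_truncate]
  intro j hj
  refine hr j _ ?_
  rw [← coeff_scaled c X hj]
  have := congrArg (TruncatedWittVector.coeff ⟨j, hj⟩) h
  rw [coeff_truncate, coeff_truncate, map_coeff] at this
  exact ⟨_, this⟩

theorem sub_mem_fil (hr : RootClosed p A B) {m : ℕ} {c : B} {a b : TruncatedWittVector p m B}
    (ha : a ∈ WittFil.fil p m (A := A) c) (hb : b ∈ WittFil.fil p m (A := A) c) :
    a - b ∈ WittFil.fil p m (A := A) c := by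
  obtain ⟨X, rfl⟩ := truncate_surjective p m B a
  obtain ⟨Y, rfl⟩ := truncate_surjective p m B b
  obtain ⟨X', hX⟩ := exists_lift ha
  obtain ⟨Y', hY⟩ := exists_lift hb
  rw [← map_sub]
  refine mem_fil_of_lift hr (X' := X' - Y') ?_
  rw [map_sub, map_sub, scaled_sub, map_sub, truncate_map_eq hX, truncate_map_eq hY]

theorem mul_mem_fil (hr : RootClosed p A B) {m : ℕ} {c c' : B} {a b : TruncatedWittVector p m B}
    (ha : a ∈ WittFil.fil p m (A := A) c) (hb : b ∈ WittFil.fil p m (A := A) c') :
    a * b ∈ WittFil.fil p m (A := A) (c * c') := by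
  obtain ⟨X, rfl⟩ := truncate_surjective p m B a
  obtain ⟨Y, rfl⟩ := truncate_surjective p m B b
  obtain ⟨X', hX⟩ := exists_lift ha
  obtain ⟨Y', hY⟩ := exists_lift hb
  rw [← map_mul]
  refine mem_fil_of_lift hr (X' := X' * Y') ?_
  rw [map_mul, map_mul, truncate_map_eq hX, truncate_map_eq hY, ← map_mul]
  congr 1
  simp only [scaled, map_mul]
  ring

end CharP

section Valuation

variable [IsDomain A] {r : ℕ} {x : Fin r → A}

theorem prod_pow_dvd (hx : ∀ i, Prime (x i)) (hxa : ∀ i j, Associated (x i) (x j) → i = j) (k : ℕ) {a : A}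
    (h : ∀ i, x i ^ k ∣ a) (s : Finset (Fin r)) : ∏ i ∈ s, x i ^ k ∣ a := by
  classical
  induction s using Finset.induction with
  | empty => simp
  | @insert i s hi ih =>
    obtain ⟨c, rfl⟩ := ih
    rw [Finset.prod_insert hi, mul_comm (x i ^ k)]
    refine mul_dvd_mul_left _ ((hx i).pow_dvd_of_dvd_mul_left k ?_ (h i))
    rw [(hx i).dvd_finsetProd_iff]
    rintro ⟨l, hl, hd⟩
    have := (hx i).associated_of_dvd (hx l) ((hx i).dvd_of_dvd_pow hd)
    exact hi (hxa i l this ▸ hl)

variable [IsLocalization.Away (∏ i, x i) B]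

theorem algebraMap_injective' (hx : ∀ i, Prime (x i)) : Function.Injective (algebraMap A B) :=
  IsLocalization.injective (M := Submonoid.powers (∏ i, x i)) B
    (powers_le_nonZeroDivisors_of_noZeroDivisors (Finset.prod_ne_zero_iff.2 fun i _ => (hx i).ne_zero))

/-- If `y^N x^t` lies in `A` with `t_i < N` then `y` lies in `A`. -/
theorem mem_range_of_pow_mul (hx : ∀ i, Prime (x i)) (hxa : ∀ i j, Associated (x i) (x j) → i = j)
    (hfin : ∀ i (a : A), a ≠ 0 → FiniteMultiplicity (x i) a)
    {N : ℕ} {t : Fin r → ℕ} (ht : ∀ i, t i < N) {y : B}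
    (h : y ^ N * algebraMap A B (∏ i, x i ^ t i) ∈ (algebraMap A B).range) :
    y ∈ (algebraMap A B).range := by
  classical
  obtain ⟨k, a, hka⟩ := IsLocalization.Away.surj (∏ i, x i) y
  obtain ⟨b, hb⟩ := h
  have hinj := algebraMap_injective' (B := B) hx
  have hab : a ^ N * ∏ i, x i ^ t i = b * (∏ i, x i) ^ (k * N) := hinj <| by
    rw [map_mul, map_mul, map_pow, map_pow, ← hka, hb, mul_pow, ← pow_mul]
    ring
  have hdvd : ∀ i, x i ^ k ∣ a := by
    intro i
    rcases eq_or_ne a 0 with rfl | ha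
    · exact dvd_zero _
    obtain ⟨a', ha', ha'n⟩ := (hfin i a ha).exists_eq_pow_mul_and_not_dvd
    generalize multiplicity (x i) a = v at ha'
    subst ha'
    by_contra hnd
    have hvk : v < k := by
      by_contra hh
      exact hnd (Dvd.dvd.mul_right (pow_dvd_pow _ (by omega)) _)
    have h1 : x i ^ (k * N) ∣ (x i ^ v * a') ^ N * ∏ l, x l ^ t l := by
      rw [hab, ← Finset.prod_pow]
      exact Dvd.dvd.mul_left (Finset.dvd_prod_of_mem (fun l => x l ^ (k * N)) (Finset.mem_univ i)) _
    rw [← Finset.mul_prod_erase _ _ (Finset.mem_univ i), mul_pow, ← pow_mul,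
      show ∀ e a b c : A, e * a * (b * c) = e * b * (a * c) from fun _ _ _ _ => by ring, ← pow_add] at h1
    have hlt : v * N + t i < k * N := by
      have := Nat.mul_le_mul_right N (show v + 1 ≤ k from hvk)
      have := ht i
      rw [add_mul, one_mul] at *
      omega
    rw [show k * N = v * N + t i + (k * N - (v * N + t i) - 1 + 1) by omega, pow_add,
      mul_dvd_mul_iff_left (pow_ne_zero _ (hx i).ne_zero)] at h1
    have h2 := (dvd_pow_self (x i) (by omega)).trans h1
    rcases (hx i).dvd_or_dvd h2 with h3 | h3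
    · exact ha'n ((hx i).dvd_of_dvd_pow h3)
    · obtain ⟨l, hl, h4⟩ := (hx i).dvd_finsetProd_iff _ |>.1 h3
      exact (Finset.mem_erase.1 hl).1 (hxa i l ((hx i).associated_of_dvd (hx l) ((hx i).dvd_of_dvd_pow h4))).symm
  obtain ⟨a', rfl⟩ := prod_pow_dvd hx hxa k hdvd Finset.univ
  refine ⟨a', ?_⟩
  rw [Finset.prod_pow, map_mul, map_pow, mul_comm y] at *
  exact ((IsLocalization.Away.algebraMap_isUnit (∏ i, x i)).pow k).mul_left_cancel hka.symm

theorem rootClosed (hx : ∀ i, Prime (x i)) (hxa : ∀ i j, Associated (x i) (x j) → i = j)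
    (hfin : ∀ i (a : A), a ≠ 0 → FiniteMultiplicity (x i) a) : RootClosed p A B := fun k y h =>
  mem_range_of_pow_mul hx hxa hfin (N := p ^ k) (t := 0) (fun _ => pow_pos (Fact.out : p.Prime).pos k)
    (by simpa using h)

omit [IsLocalization.Away (∏ i, x i) B] in
theorem zmon_add (u : Fin r → Bˣ) (n n' : Fin r → ℤ) :
    WittFil.zmon u (n + n') = WittFil.zmon u n * WittFil.zmon u n' := by
  simp [WittFil.zmon, zpow_add, Finset.prod_mul_distrib]

omit [IsLocalization.Away (∏ i, x i) B] in
theorem zmon_nat (u : Fin r → Bˣ) (hu : ∀ i, (u i : B) = algebraMap A B (x i)) (t : Fin r → ℕ) :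
    WittFil.zmon u (fun i => (t i : ℤ)) = algebraMap A B (∏ i, x i ^ t i) := by
  simp [WittFil.zmon, hu]

omit [IsLocalization.Away (∏ i, x i) B] in
theorem zmon_mul_nat (u : Fin r → Bˣ) (N : ℕ) (q : Fin r → ℤ) :
    WittFil.zmon u (fun i => (N : ℤ) * q i) = WittFil.zmon u q ^ N := by
  rw [WittFil.zmon, WittFil.zmon, ← Units.val_pow_eq_pow_val, ← Finset.prod_pow]
  congr 2 with i
  rw [← zpow_natCast, ← zpow_mul, mul_comm]

/-- Splitting a monomial by division with remainder. -/
theorem pow_mul_zmon {u : Fin r → Bˣ} (hu : ∀ i, (u i : B) = algebraMap A B (x i))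
    {N : ℕ} (hN : 0 < N) (n : Fin r → ℤ) (y : B) :
    y ^ N * WittFil.zmon u n =
      (y * WittFil.zmon u (fun i => n i / N)) ^ N * algebraMap A B (∏ i, x i ^ (n i % N).toNat) := by
  rw [mul_pow, ← zmon_mul_nat, ← zmon_nat u hu, mul_assoc, ← zmon_add]
  congr 2 with i
  simp only [Pi.add_apply, Int.toNat_of_nonneg (Int.emod_nonneg _ (show (N : ℤ) ≠ 0 by omega))]
  exact (Int.mul_ediv_add_emod _ _).symm

theorem mem_range_floor (hx : ∀ i, Prime (x i)) (hxa : ∀ i j, Associated (x i) (x j) → i = j)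
    (hfin : ∀ i (a : A), a ≠ 0 → FiniteMultiplicity (x i) a)
    {u : Fin r → Bˣ} (hu : ∀ i, (u i : B) = algebraMap A B (x i)) {N : ℕ} (hN : 0 < N) {n : Fin r → ℤ} {y : B}
    (h : y ^ N * WittFil.zmon u n ∈ (algebraMap A B).range) :
    y * WittFil.zmon u (fun i => n i / N) ∈ (algebraMap A B).range := by
  rw [pow_mul_zmon hu hN] at h
  refine mem_range_of_pow_mul hx hxa hfin (fun i => ?_) h
  have := Int.emod_lt_of_pos (n i) (show (0 : ℤ) < N by omega)
  omega

end Valuation

end Groth.WittFilH
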