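import Mathlib

/-! Coefficients of the product of a Witt vector with a Teichmüller representative. -/

set_option autoImplicit false

universe u

namespace Groth.WittFilH

variable {p : ℕ} [Fact p.Prime]

/-- The Witt vector with components `x_n r^(p^n)`. -/
def scale {R : Type*} [CommRing R] (x : WittVector p R) (r : R) : WittVector p R :=
  WittVector.mk p fun n => x.coeff n * r ^ p ^ n

theorem map_scale {R S : Type*} [CommRing R] [CommRing S] (f : R →+* S) (x : WittVector p R) (r : R) :
    WittVector.map f (scale x r) = scale (WittVector.map f x) (f r) := by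
  ext n; simp [scale, WittVector.map_coeff]

theorem ghost_scale {R : Type*} [CommRing R] (x : WittVector p R) (r : R) (n : ℕ) :
    WittVector.ghostComponent n (scale x r) = WittVector.ghostComponent n x * r ^ p ^ n := by
  simp only [WittVector.ghostComponent_apply, aeval_wittPolynomial, Finset.sum_mul, scale, WittVector.coeff_mk]
  refine Finset.sum_congr rfl fun i hi => ?_
  rw [mul_pow, ← pow_mul, ← pow_add, Nat.add_sub_cancel' (by simpa [Nat.lt_succ_iff] using hi), mul_assoc]

theorem mul_teichmuller_eq_scale {R : Type u} [CommRing R] (x : WittVector p R) (r : R) :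
    x * WittVector.teichmuller p r = scale x r := by
  let g : MvPolynomial (ℕ ⊕ Unit) ℤ →+* R :=
    MvPolynomial.eval₂Hom (Int.castRingHom R) (Sum.elim x.coeff fun _ => r)
  let X₀ : WittVector p (MvPolynomial (ℕ ⊕ Unit) ℤ) := WittVector.mk p fun n => MvPolynomial.X (Sum.inl n)
  let Y₀ : MvPolynomial (ℕ ⊕ Unit) ℤ := MvPolynomial.X (Sum.inr ())
  have h1 : WittVector.map g X₀ = x := by ext n; simp [g, X₀, WittVector.map_coeff]
  have h2 : g Y₀ = r := by simp [g, Y₀]
  have key : X₀ * WittVector.teichmuller p Y₀ = scale X₀ Y₀ := by
    refine WittVector.map_injective (MvPolynomial.map (Int.castRingHom ℚ))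
      (MvPolynomial.map_injective _ Int.cast_injective) ?_
    rw [map_mul, WittVector.map_teichmuller, map_scale]
    haveI : Invertible (p : MvPolynomial (ℕ ⊕ Unit) ℚ) := by
      haveI : Invertible (p : ℚ) := invertibleOfNonzero (Nat.cast_ne_zero.2 (Fact.out : p.Prime).ne_zero)
      exact ((inferInstance : Invertible (p : ℚ)).map MvPolynomial.C).copy _ (map_natCast _ p).symm
    apply (WittVector.ghostMap.bijective_of_invertible p (MvPolynomial (ℕ ⊕ Unit) ℚ)).1
    ext1 n
    simp [WittVector.ghostMap_apply, ghost_scale]
  have := congrArg (WittVector.map g) key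
  rwa [map_mul, WittVector.map_teichmuller, map_scale, h1, h2] at this

theorem coeff_mul_teichmuller {R : Type u} [CommRing R] (x : WittVector p R) (r : R) (n : ℕ) :
    (x * WittVector.teichmuller p r).coeff n = x.coeff n * r ^ p ^ n := by
  rw [mul_teichmuller_eq_scale]; rfl

end Groth.WittFilH
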